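import Groth.Agent.KoszBlow.Chart
import Groth.Agent.BlowUpExist.Proper
import Groth.Agent.PCMor.Scheme
import Groth.Agent.KoszulLib.Basic
import Mathlib

/-!
# Blow-ups in Koszul-regular centres are perfect morphisms
-/

set_option autoImplicit false
set_option linter.style.haveILetI false
set_option maxSynthPendingDepth 4
set_option backward.isDefEq.respectTransparency false
universe u

open CategoryTheory AlgebraicGeometry Limits TopologicalSpace

namespace Groth.Agent.KoszBlow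

open BlowUpExist
open Wiebe (Acyclic)

theorem irrelevant_le_gens {A : Type u} [CommRing A] {I : Ideal A} {m : ℕ} (a : Fin m → A)
    (hI : I = Ideal.span (Set.range a)) :
    (HomogeneousIdeal.irrelevant (Rees.deg (reesAlgebra I))).toIdeal ≤
      Ideal.span (Set.range fun j => tt I (a j) (hI ▸ Ideal.subset_span ⟨j, rfl⟩)) := by
  refine (irrelevant_le_span I).trans (Ideal.span_le.2 ?_)
  rintro _ ⟨⟨x, hx⟩, rfl⟩
  obtain ⟨c, hc⟩ := Ideal.mem_span_range_iff_exists_fun.1 (hI ▸ hx)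
  have key : tt I x hx = ∑ j, algebraMap A (reesAlgebra I) (c j) *
      tt I (a j) (hI ▸ Ideal.subset_span ⟨j, rfl⟩) := Subtype.ext (by
    simp [tt, mono, ← hc, Polynomial.C_mul_monomial, map_sum])
  simp only [SetLike.mem_coe]
  rw [key]
  exact Ideal.sum_mem _ fun j _ => Ideal.mul_mem_left _ _ (Ideal.subset_span ⟨j, rfl⟩)

theorem perfect_structMap {A : Type u} [CommRing A] {I : Ideal A} {m : ℕ} (a : Fin m → A)
    (hI : I = Ideal.span (Set.range a)) (ha : Acyclic a) : MoreMor.IsPerfectMor (structMap I) := by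
  let 𝒰 := (Proj.affineOpenCoverOfIrrelevantLESpan (Rees.deg (reesAlgebra I))
    (fun j : Fin m => tt I (a j) (hI ▸ Ideal.subset_span ⟨j, rfl⟩)) (m := fun _ => 1)
    (fun j => tt_mem I _ _) (fun _ => one_pos) (irrelevant_le_gens a hI)).openCover
  refine (IsZariskiLocalAtSource.iff_of_openCover (P := @MoreMor.IsPerfectMor) 𝒰).2 fun (j : Fin m) => ?_
  show MoreMor.IsPerfectMor (chart I (a j) _ ≫ structMap I)
  rw [chart_structMap]
  refine (HasRingHomProperty.Spec_iff (P := @MoreMor.IsPerfectMor)).2 ?_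
  obtain ⟨n, rfl⟩ : ∃ n, m = n + 1 := ⟨m - 1, by have := j.2; omega⟩
  exact pf_fromA' a hI ha j

theorem perfect_spec {A : CommRingCat.{u}} {Y : Scheme.{u}} (b : Y ⟶ Spec A) (J : (Spec A).IdealSheafData)
    (hb : BlowUp.IsBlowUp b J) {m : ℕ} (a : Fin m → A) (ha : Acyclic a)
    (hJ : (J.ideal ⟨⊤, isAffineOpen_top _⟩).map (Scheme.ΓSpecIso A).hom.hom = Ideal.span (Set.range a)) :
    MoreMor.IsPerfectMor b := by
  let I : Ideal A := (J.ideal ⟨⊤, isAffineOpen_top _⟩).map (Scheme.ΓSpecIso A).hom.hom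
  have h : J = sheafOf I := by
    refine (Scheme.IdealSheafData.equivOfIsAffine (X := Spec A)).injective ?_
    refine Eq.trans ?_ ((Scheme.IdealSheafData.equivOfIsAffine (X := Spec A)).apply_symm_apply _).symm
    rw [Ideal.map_map, ← CommRingCat.hom_comp]
    erw [Iso.hom_inv_id]
    rw [CommRingCat.hom_id, Ideal.map_id]
    rfl
  have h0 := isBlowUp_affine I
  rw [← h] at h0
  obtain ⟨k, hk, -⟩ := h0.2 _ b hb.1
  obtain ⟨l, hl, -⟩ := hb.2 _ (structMap I) h0.1
  have h1 : k ≫ l = 𝟙 _ := (hb.2 _ b hb.1).unique (by rw [Category.assoc, hl, hk]) (Category.id_comp _)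
  have h2 : l ≫ k = 𝟙 _ := (h0.2 _ _ h0.1).unique (by rw [Category.assoc, hk, hl]) (Category.id_comp _)
  haveI : IsIso k := ⟨l, h1, h2⟩
  rw [← hk]
  exact MorphismProperty.comp_mem _ _ _ (IsZariskiLocalAtSource.of_isOpenImmersion k)
    (perfect_structMap a hJ ha)

theorem map_ideal_fromSpec {X : Scheme.{u}} (J : X.IdealSheafData) (U : X.affineOpens) :
    ((J.comap U.2.fromSpec).ideal ⟨⊤, isAffineOpen_top _⟩).map (Scheme.ΓSpecIso Γ(X, U.1)).hom.hom = J.ideal U := by
  rw [ideal_comap_fromSpec, Ideal.map_map, ← CommRingCat.hom_comp, Iso.inv_hom_id, CommRingCat.hom_id, Ideal.map_id]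

theorem perfect_of_isBlowUp {X X' : Scheme.{u}} {b : X' ⟶ X} {𝓘 : X.IdealSheafData} (hb : BlowUp.IsBlowUp b 𝓘)
    (hloc : ∀ x : X, ∃ (U : X.affineOpens) (m : ℕ) (a : Fin m → Γ(X, U.1)), x ∈ U.1 ∧ Acyclic a ∧
      𝓘.ideal U = Ideal.span (Set.range a)) : MoreMor.IsPerfectMor b := by
  choose U m a hU ha hIU using hloc
  let 𝒰 : X.OpenCover := Scheme.AffineOpenCover.openCover
    { I₀ := X
      X := fun x => Γ(X, (U x).1)
      f := fun x => (U x).2.fromSpec
      idx := fun x => x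
      covers := fun x => by
        show x ∈ Set.range _
        rw [(U x).2.range_fromSpec]; exact hU x }
  refine (IsZariskiLocalAtTarget.iff_of_openCover (P := @MoreMor.IsPerfectMor) 𝒰).2 fun (x : X) => ?_
  have h1 := perfect_spec _ _ (BlowUpLib.isBlowUp_flat (U x).2.fromSpec hb) (a x) (ha x)
    ((map_ideal_fromSpec 𝓘 (U x)).trans (hIU x))
  show MoreMor.IsPerfectMor (pullback.snd b (U x).2.fromSpec)
  rw [← pullbackSymmetry_hom_comp_fst]
  exact MorphismProperty.comp_mem _ _ _ (IsZariskiLocalAtSource.of_isOpenImmersion _) h1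

theorem exists_acyclic_of_regularImmersion {X Y : Scheme.{u}} {i : Y ⟶ X} (hi : Mor2.IsRegularClosedImmersion i)
    (x : X) : ∃ (U : X.affineOpens) (m : ℕ) (a : Fin m → Γ(X, U.1)), x ∈ U.1 ∧ Acyclic a ∧
      i.ker.ideal U = Ideal.span (Set.range a) := by
  haveI := hi.1
  by_cases hx : x ∈ i.ker.support
  · obtain ⟨z, rfl⟩ : x ∈ Set.range i := by
      have h := (Scheme.Hom.support_ker i).le hx
      rwa [i.isClosedEmbedding.isClosed_range.closure_eq] at h
    obtain ⟨U, hU, hz, rs, hrs, hker⟩ := hi.2 z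
    refine ⟨⟨U, hU⟩, rs.length, rs.get, hz,
      KoszulLib.acyclic_of_isWeaklyRegular' (by rw [List.ofFn_get]; exact hrs.toIsWeaklyRegular), hker.trans ?_⟩
    rw [Set.range_list_get]
  · obtain ⟨_, ⟨V, hV, rfl⟩, hxV, hVsub⟩ := X.isBasis_affineOpens.exists_subset_of_mem_open
      (show x ∈ (i.ker.support : Set X)ᶜ from hx) i.ker.support.isClosed.isOpen_compl
    have htop : i.ker.ideal ⟨V, hV⟩ = ⊤ := by
      have h := map_ideal_fromSpec i.ker ⟨V, hV⟩
      rw [BlowUpLib.comap_eq_top i.ker hV.fromSpec fun y hy => hVsub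
        (by rw [← hV.range_fromSpec]; exact ⟨y, rfl⟩) hy] at h
      simpa [Scheme.IdealSheafData.ideal_top, Ideal.map_top] using h.symm
    refine ⟨⟨V, hV⟩, 1, fun _ => 1, hxV, KoszulLib.acyclic_of_span_eq_top ?_, htop.trans ?_⟩
    · simp
    · simp

end Groth.Agent.KoszBlow
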