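import Groth.Agent.KoszBlow.Ring
import Groth.Agent.BlowUpExist.Algebra
import Groth.Agent.PCMor.Ring
import Groth.Agent.PCMor.Module
import Groth.Agent.KoszulLib.Iff
import Groth.Agent.S7070
import Mathlib

/-!
# Blow-up charts along Koszul-regular sequences are perfect
-/

set_option autoImplicit false
set_option linter.style.haveILetI false
set_option maxSynthPendingDepth 4
set_option backward.isDefEq.respectTransparency false
universe u
attribute [local instance] HasDerivedCategory.standard

open MvPolynomial HomogeneousLocalization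

namespace Groth.Agent.KoszBlow

open BlowUpExist
open Wiebe (Acyclic)

variable {A : Type u} [CommRing A] {n : ℕ} (a : Fin (n + 1) → A) {I : Ideal A}
  (hI : I = Ideal.span (Set.range a))

local notation "𝒜" => Rees.deg (reesAlgebra I)

include hI in
theorem mem_ideal (i : Fin (n + 1)) : a i ∈ I := hI ▸ Ideal.subset_span ⟨i, rfl⟩

/-- the presentation of the chart of the first generator -/
noncomputable def pres : MvPolynomial (Fin n) A →+* HomogeneousLocalization.Away 𝒜 (tt I (a 0) (mem_ideal a hI 0)) :=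
  eval₂Hom (fromA I (a 0) (mem_ideal a hI 0)) fun i =>
    Away.mk 𝒜 (tt_mem I (a 0) (mem_ideal a hI 0)) 1 (tt I (a i.succ) (mem_ideal a hI _))
      (by simpa using tt_mem I _ _)

theorem pres_C (x : A) : pres a hI (C x) = fromA I (a 0) (mem_ideal a hI 0) x := eval₂Hom_C _ _ _

theorem pres_X (i : Fin n) :
    pres a hI (X i) * fromA I (a 0) (mem_ideal a hI 0) (a 0) = fromA I (a 0) (mem_ideal a hI 0) (a i.succ) := by
  rw [show pres a hI (X i) = _ from eval₂Hom_X' _ _ _]
  exact mul_fromA I _ _ _ _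

theorem exists_pres_of_mem {b : A} (hb : b ∈ I) : ∃ q, pres a hI q * fromA I (a 0) (mem_ideal a hI 0) (a 0) =
    fromA I (a 0) (mem_ideal a hI 0) b := by
  rw [hI] at hb
  refine Submodule.span_induction ?_ ⟨0, by simp⟩ ?_ ?_ hb
  · rintro _ ⟨i, rfl⟩
    refine Fin.cases ⟨1, by simp⟩ (fun k => ⟨X k, pres_X a hI k⟩) i
  · rintro x y - - ⟨p, hp⟩ ⟨q, hq⟩
    exact ⟨p + q, by rw [map_add, map_add, add_mul, hp, hq]⟩
  · rintro r x - ⟨p, hp⟩
    exact ⟨C r * p, by rw [smul_eq_mul, map_mul, map_mul, pres_C, mul_assoc, hp]⟩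

theorem exists_pres_of_mem_pow : ∀ (k : ℕ) {c : A}, c ∈ I ^ k →
    ∃ q, pres a hI q * fromA I (a 0) (mem_ideal a hI 0) (a 0 ^ k) = fromA I (a 0) (mem_ideal a hI 0) c := by
  intro k
  induction k with
  | zero => exact fun {c} _ => ⟨C c, by rw [pres_C, pow_zero, map_one, mul_one]⟩
  | succ k ih =>
    intro c hc
    rw [pow_succ'] at hc
    refine Submodule.mul_induction_on hc (fun b hb e he => ?_) ?_
    · obtain ⟨p, hp⟩ := exists_pres_of_mem a hI hb
      obtain ⟨q, hq⟩ := ih he
      exact ⟨p * q, by rw [pow_succ', map_mul, map_mul, map_mul, ← hp, ← hq]; ring⟩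
    · rintro x y ⟨p, hp⟩ ⟨q, hq⟩
      exact ⟨p + q, by rw [map_add, map_add, add_mul, hp, hq]⟩

theorem pres_surjective : Function.Surjective (pres a hI) := fun z => by
  obtain ⟨k, x, hx, rfl⟩ := Away.mk_surjective 𝒜 (tt_mem I (a 0) (mem_ideal a hI 0)) z
  have hx' : x ∈ 𝒜 k := by simpa using hx
  have hc : ev1 I x ∈ I ^ k := by rw [eq_mono_of_mem I hx', ev1_mono]; exact coeff_mem I k x
  obtain ⟨q, hq⟩ := exists_pres_of_mem_pow a hI k hc
  refine ⟨q, ?_⟩
  rw [← mul_cancel_right_mem_nonZeroDivisors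
    (pow_mem (fromA_mem_nonZeroDivisors I (a 0) (mem_ideal a hI 0)) k), ← map_pow, hq]
  exact (val_mul_pow I _ _ k x hx).symm

theorem ker_pres (ha : Acyclic a) : RingHom.ker (pres a hI) = Ideal.span (Set.range (eqn a)) := by
  refine le_antisymm (fun p hp => ?_) (Ideal.span_le.2 ?_)
  · let T := Localization.Away (a 0)
    have hu : IsUnit (algebraMap A T (a 0)) := IsLocalization.Away.algebraMap_isUnit (a 0)
    obtain ⟨χ, hχ⟩ := exists_chartHom I (a 0) (mem_ideal a hI 0) (algebraMap A T) hu.mem_nonZeroDivisors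
      (by rw [Ideal.span_singleton_eq_top.2 hu,
        Ideal.eq_top_of_isUnit_mem _ (Ideal.mem_map_of_mem _ (mem_ideal a hI 0)) hu])
    have key : χ.comp (pres a hI) = (aeval (val a T)).toRingHom := by
      refine MvPolynomial.ringHom_ext (fun x => ?_) fun i => ?_
      · show χ (pres a hI (C x)) = aeval (val a T) (C x)
        rw [pres_C, ← RingHom.comp_apply, hχ, aeval_C]
      · show χ (pres a hI (X i)) = aeval (val a T) (X i)
        rw [aeval_X, val, IsLocalization.eq_mk'_iff_mul_eq]
        have h := congrArg χ (pres_X a hI i)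
        rwa [map_mul, ← RingHom.comp_apply χ (fromA I (a 0) _), ← RingHom.comp_apply χ (fromA I (a 0) _), hχ] at h
    refine mem_span_of_aeval a T ha ?_
    have h := RingHom.congr_fun key p
    rw [RingHom.comp_apply, RingHom.mem_ker.1 hp, map_zero] at h
    exact h.symm
  · rintro _ ⟨i, rfl⟩
    show pres a hI (eqn a i) = 0
    rw [eqn, map_sub, map_mul, pres_C, pres_C, mul_comm, pres_X, sub_self]

open PCMor in
theorem pf_fromA (ha : Acyclic a) : Pf (fromA I (a 0) (mem_ideal a hI 0)) := by
  rw [show fromA I (a 0) (mem_ideal a hI 0) = (pres a hI).comp C from RingHom.ext fun x => (pres_C a hI x).symm]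
  refine Pf.comp (pf_of_flat_fp ?_ ?_) (pf_of_surjective_pfHom (pres_surjective a hI) ?_)
  · rw [← MvPolynomial.algebraMap_eq, RingHom.flat_algebraMap_iff]; infer_instance
  · rw [← MvPolynomial.algebraMap_eq, RingHom.finitePresentation_algebraMap]; infer_instance
  · have hk : RingHom.ker (pres a hI) = Ideal.ofList (List.ofFn (eqn a)) := by
      rw [ker_pres a hI ha, Ideal.ofList]
      congr 1
      ext r
      simp [List.mem_ofFn]
    show PfHom (pres a hI)
    unfold PfHom
    letI := (pres a hI).toAlgebra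
    let e : (MvPolynomial (Fin n) A ⧸ Ideal.ofList (List.ofFn (eqn a))) ≃ₗ[MvPolynomial (Fin n) A]
        HomogeneousLocalization.Away 𝒜 (tt I (a 0) (mem_ideal a hI 0)) :=
      { (Ideal.quotEquivOfEq hk.symm).trans (RingHom.quotientKerEquivOfSurjective (pres_surjective a hI)) with
        map_smul' := fun c x => by
          obtain ⟨y, rfl⟩ := Ideal.Quotient.mk_surjective x
          exact map_mul (pres a hI) c y }
    exact perfectModule_of_equiv e (Groth.Agent.S7070.isPerfectModule_of_koszul _
      (KoszulLib.isKoszulRegularSeq_of_acyclic (acyclic_eqn a ha)))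

include hI in
theorem pf_fromA' (ha : Acyclic a) (j : Fin (n + 1)) : PCMor.Pf (fromA I (a j) (mem_ideal a hI j)) := by
  have key : ∀ (b : A) (hb : b ∈ I), b = (a ∘ Equiv.swap 0 j) 0 → PCMor.Pf (fromA I b hb) := by
    rintro b hb rfl
    exact pf_fromA (a ∘ Equiv.swap 0 j)
      (by rw [hI, Set.range_comp, Set.range_eq_univ.2 (Equiv.swap 0 j).surjective, Set.image_univ])
      (KoszulLib.acyclic_comp_equiv _ ha)
  exact key _ _ (by simp)

end Groth.Agent.KoszBlow
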