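import Groth.Agent.KoszulLib.Flat

/-!
# Dropping the first element of a Koszul-regular sequence
-/

set_option autoImplicit false
set_option linter.style.haveILetI false
universe u

namespace Groth.Agent.KoszBlow

open Wiebe KoszulLib

variable {R : Type u} [CommRing R] {n : ℕ} {f : Fin (n + 1) → R}

/-- cycles annihilated by the first element modulo boundaries are boundaries -/
theorem mem_range_of_smul (hf : Acyclic f) {z v : X R n} (hz : d (Fin.tail f) z = 0)
    (h : f 0 • z = d (Fin.tail f) v) : z ∈ LinearMap.range (d (Fin.tail f)) := by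
  have hZ : d f (Wiebe.mk (-v, z)) = 0 := by
    apply Wiebe.ext'
    · simp [h]
    · simp [hz]
  obtain ⟨V, s, hV⟩ := hf _ hZ
  have h1 := congrArg p1 hV
  simp only [p1_mk, map_add, map_smul, p1_d, bot, smul_zero, add_zero] at h1
  exact ⟨-p1 V, by rw [map_neg, h1]⟩

theorem eps_mem_of_range {z : X R n} {g : Fin n → R} (h : z ∈ LinearMap.range (d g)) :
    eps z ∈ Ideal.span (Set.range g) := by
  obtain ⟨v, rfl⟩ := h
  exact eps_mem _ _ (d_mem g v)

/-- the first element is regular modulo the others -/
theorem mem_span_of_mul_mem (hf : Acyclic f) {x : R} (hx : f 0 * x ∈ Ideal.span (Set.range (Fin.tail f))) :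
    x ∈ Ideal.span (Set.range (Fin.tail f)) := by
  obtain ⟨c, hc⟩ := Ideal.mem_span_range_iff_exists_fun.1 hx
  have hwb : d (Fin.tail f) (w c (bot R n)) = (f 0 * x) • bot R n := by
    have h := d_w (Fin.tail f) c (bot R n)
    rw [d_bot, map_zero, add_zero, hc] at h
    exact h
  have h := eps_mem_of_range (mem_range_of_smul hf (z := x • bot R n) (by rw [map_smul, d_bot, smul_zero])
    (by rw [hwb, smul_smul]))
  simpa [eps_bot] using h

theorem acyclic_tail (hf : Acyclic f) (T : Type u) [CommRing T] [Algebra R T] [IsLocalization.Away (f 0) T]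
    (hT : Acyclic (algebraMap R T ∘ Fin.tail f)) : Acyclic (Fin.tail f) := by
  intro z hz
  let g := Fin.tail f
  let φ := algebraMap R T
  let z' := z - eps z • bot R n
  have hz' : d g z' = 0 := by
    show d (Fin.tail f) (z - eps z • bot R n) = 0
    rw [map_sub, hz, map_smul, d_bot, smul_zero, sub_zero]
  have he : eps z' = 0 := by simp [z', eps_bot]
  suffices hmain : z' ∈ LinearMap.range (d g) by
    obtain ⟨v, hv⟩ := hmain
    exact ⟨v, eps z, by rw [hv]; simp [z']⟩
  obtain ⟨v, r, hv⟩ := hT (mapX φ z') (by rw [← mapX_d, hz']; funext s; simp [mapX])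
  classical
  obtain ⟨b, hb⟩ := IsLocalization.exist_integer_multiples (Submonoid.powers (f 0)) (Finset.univ.image v ∪ {r}) id
  have hvi : ∀ s, ∃ a : R, φ a = φ b * v s := fun s => by
    obtain ⟨a, ha⟩ := hb (v s) (Finset.mem_union_left _ (Finset.mem_image_of_mem v (Finset.mem_univ s)))
    exact ⟨a, by rw [ha, id, Algebra.smul_def]⟩
  obtain ⟨r', hr'⟩ : ∃ a : R, φ a = φ b * r := by
    obtain ⟨a, ha⟩ := hb r (Finset.mem_union_right _ (Finset.mem_singleton_self r))
    exact ⟨a, by rw [ha, id, Algebra.smul_def]⟩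
  choose v' hv' using hvi
  have heq : ∀ s, φ (((b : R) • z') s) = φ ((d g v' + r' • bot R n) s) := fun s => by
    have h1 := congrFun (congrArg (fun y => φ b • y) hv) s
    have hvv : mapX φ v' = φ b • v := funext hv'
    have h2 : φ ((d g v') s) = (φ b • d (φ ∘ g) v) s := by
      rw [← map_smul, ← hvv, ← mapX_d]; rfl
    have h3 : φ ((bot R n) s) = bot T n s := congrFun (mapX_bot φ n) s
    simp only [Pi.smul_apply, Pi.add_apply, smul_eq_mul, map_mul, map_add, h2, h3, hr'] at h1 ⊢
    rw [show φ (z' s) = mapX φ z' s from rfl, h1]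
    ring
  have hcs : ∀ s, ∃ c : Submonoid.powers (f 0),
      (c : R) * ((b : R) • z') s = c * (d g v' + r' • bot R n) s := fun s => by
    obtain ⟨c, hc⟩ := IsLocalization.exists_of_eq (M := Submonoid.powers (f 0)) (heq s)
    exact ⟨c, hc⟩
  choose c hc using hcs
  let C : Submonoid.powers (f 0) := ∏ s, c s
  have hC : ((C : R) * b) • z' = (C : R) • (d g v' + r' • bot R n) := by
    funext s
    obtain ⟨e, he⟩ : c s ∣ C := Finset.dvd_prod_of_mem c (Finset.mem_univ s)
    rw [mul_smul]
    simp only [Pi.smul_apply, smul_eq_mul, he, Submonoid.coe_mul]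
    have := hc s
    simp only [Pi.smul_apply, Pi.add_apply, smul_eq_mul] at this ⊢
    linear_combination (e : R) * this
  obtain ⟨k, hk⟩ := (C * b).2
  have hk' : f 0 ^ k = (C : R) * b := by simpa using hk
  have hr : (C : R) * r' ∈ Ideal.span (Set.range g) := by
    have h1 := congrArg eps hC
    simp only [map_smul, he, smul_zero, map_add, smul_eq_mul, eps_bot, mul_one, mul_add, mul_zero] at h1
    have h2 := eps_mem _ _ (d_mem g v')
    rw [show (C : R) * r' = -((C : R) * eps (d g v')) by linear_combination -h1]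
    exact neg_mem (Ideal.mul_mem_left _ _ h2)
  obtain ⟨c', hc'⟩ := Ideal.mem_span_range_iff_exists_fun.1 hr
  have hwb : d g (w c' (bot R n)) = ((C : R) * r') • bot R n := by
    have h := d_w g c' (bot R n)
    rw [d_bot, map_zero, add_zero, hc'] at h
    exact h
  have hpow : f 0 ^ k • z' ∈ LinearMap.range (d g) :=
    ⟨(C : R) • v' + w c' (bot R n), by rw [map_add, map_smul, hwb, hk', hC, smul_add, smul_smul]⟩
  clear hk hk'
  induction k with
  | zero => simpa using hpow
  | succ k ih =>
    refine ih ?_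
    obtain ⟨y, hy⟩ := hpow
    refine mem_range_of_smul hf (v := y) (by rw [map_smul, hz', smul_zero]) ?_
    rw [smul_smul, ← pow_succ', hy]

end Groth.Agent.KoszBlow
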