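import Groth.Agent.KoszBlow.Tail
import Mathlib

/-!
# The equations of an affine blow-up chart along a Koszul-regular sequence
-/

set_option autoImplicit false
set_option linter.style.haveILetI false
universe u

open MvPolynomial

namespace Groth.Agent.KoszBlow

open KoszulLib
open Wiebe (Acyclic)

section Linear

variable {R : Type u} [CommRing R] {σ : Type} (b : σ → R)

/-- translation -/
noncomputable def shift (b : σ → R) : MvPolynomial σ R →ₐ[R] MvPolynomial σ R := bind₁ fun j => X j + C (b j)

theorem shift_injective : Function.Injective (shift b) := by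
  refine Function.LeftInverse.injective (g := shift fun j => -b j) fun p => ?_
  show (shift fun j => -b j).comp (shift b) p = p
  rw [show (shift fun j => -b j).comp (shift b) = AlgHom.id R _ from algHom_ext fun j => by simp [shift]]
  rfl

theorem eq_zero_of_mul_X_sub_C (i : σ) {q : MvPolynomial σ R} (h : (X i - C (b i)) * q = 0) : q = 0 := by
  have h1 := congrArg (shift b) h
  rw [map_mul, map_zero, show shift b (X i - C (b i)) = X i by simp [shift]] at h1
  exact shift_injective b ((IsRegular.left (isRegular_X (n := i))).eq_iff.1 (h1.trans (mul_zero (X i)).symm) |>.trans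
    (map_zero _).symm)

open Classical in
/-- substitution of some variables -/
noncomputable def subst (S : Set σ) : MvPolynomial σ R →ₐ[R] MvPolynomial σ R :=
  aeval fun j => if j ∈ S then C (b j) else X j

theorem mem_span_iff_subst (S : Set σ) (p : MvPolynomial σ R) :
    p ∈ Ideal.span ((fun j => X j - C (b j)) '' S) ↔ subst b S p = 0 := by
  classical
  set J := Ideal.span ((fun j => X j - C (b j)) '' S)
  constructor
  · intro h
    have : J ≤ RingHom.ker (subst b S) := by
      rw [Ideal.span_le]
      rintro _ ⟨j, hj, rfl⟩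
      simp [subst, hj]
    exact this h
  · intro h
    have key : (Ideal.Quotient.mkₐ R J).comp (subst b S) = Ideal.Quotient.mkₐ R J := algHom_ext fun j => by
      simp only [AlgHom.comp_apply, subst, aeval_X, Ideal.Quotient.mkₐ_eq_mk]
      split_ifs with hj
      · symm
        rw [Ideal.Quotient.eq]
        exact Ideal.subset_span ⟨j, hj, rfl⟩
      · rfl
    rw [← Ideal.Quotient.eq_zero_iff_mem]
    have h2 := AlgHom.congr_fun key p
    rw [AlgHom.comp_apply, h, map_zero] at h2
    exact h2.symm

theorem acyclic_linear : ∀ {m : ℕ} (e : Fin m → σ), Function.Injective e →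
    Acyclic fun i => X (e i) - C (b (e i)) := by
  intro m
  induction m with
  | zero => exact fun _ _ => acyclic_nil _
  | succ m ih =>
    intro e he
    refine acyclic_of_tail (ih (Fin.tail e) (he.comp (Fin.succ_injective m))) fun q hq => ?_
    have hr : Set.range (Fin.tail fun i => X (e i) - C (b (e i))) =
        (fun j => X j - C (b j)) '' Set.range (Fin.tail e) := by
      rw [← Set.range_comp]; rfl
    rw [hr, mem_span_iff_subst] at hq ⊢
    rw [map_mul] at hq
    have h0 : e 0 ∉ Set.range (Fin.tail e) := fun ⟨k, hk⟩ => Fin.succ_ne_zero k (he hk)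
    rw [show subst b (Set.range (Fin.tail e)) (X (e 0) - C (b (e 0))) = X (e 0) - C (b (e 0)) by
      simp [subst, h0]] at hq
    exact eq_zero_of_mul_X_sub_C b _ hq

end Linear

variable {A : Type u} [CommRing A] {n : ℕ} (a : Fin (n + 1) → A)

/-- the equations -/
noncomputable def eqn : Fin n → MvPolynomial (Fin n) A := fun i => C (a 0) * X i - C (a i.succ)

theorem acyclic_cons_eqn (ha : Acyclic a) :
    Acyclic (Fin.cons (C (a 0)) (eqn a) : Fin (n + 1) → MvPolynomial (Fin n) A) := by
  classical
  let P := MvPolynomial (Fin n) A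
  let c : Fin (n + 1) → Fin (n + 1) → P :=
    Fin.cons (Pi.single 0 1 : Fin (n + 1) → P) fun i : Fin n => (X i : P) • (Pi.single 0 1 : Fin (n + 1) → P) - Pi.single i.succ 1
  have hs : ∀ (F : Fin (n + 1) → P) (i : Fin (n + 1)), ∑ j, (Pi.single i (1 : P) : Fin (n + 1) → P) j * F j = F i :=
    fun F i => sum_single_mul i F
  refine acyclic_of_change c c ?_ ?_ ?_ (acyclic_baseChange P ha)
  · intro i
    refine Fin.cases ?_ (fun k => ?_) i
    · simp only [c, Fin.cons_zero]
      rw [hs]
      simp
      rfl
    · simp only [c, Fin.cons_succ, Pi.sub_apply, Pi.smul_apply, smul_eq_mul, sub_mul, Finset.sum_sub_distrib,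
        mul_assoc, ← Finset.mul_sum]
      rw [hs, hs]
      simp [eqn, mul_comm]
      rfl
  · intro i
    refine Fin.cases ?_ (fun k => ?_) i
    · simp only [c, Fin.cons_zero]
      rw [hs]
      simp
      rfl
    · simp only [c, Fin.cons_succ, Pi.sub_apply, Pi.smul_apply, smul_eq_mul, sub_mul, Finset.sum_sub_distrib,
        mul_assoc, ← Finset.mul_sum]
      rw [hs, hs]
      simp [eqn, mul_comm]
      rfl
  · intro i
    refine Fin.cases ?_ (fun k => ?_) i
    · rw [Fin.sum_univ_succ]
      simp [c]
    · rw [Fin.sum_univ_succ, Finset.sum_eq_single k (fun j _ hj => by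
        simp [c, Pi.single_eq_of_ne (fun h => hj (Fin.succ_injective _ h))]) (by simp)]
      simp [c]

variable (T : Type u) [CommRing T] [Algebra A T] [IsLocalization.Away (a 0) T]

/-- the values of the variables -/
noncomputable def val : Fin n → T :=
  fun i => IsLocalization.mk' T (a i.succ) (⟨a 0, Submonoid.mem_powers (a 0)⟩ : Submonoid.powers (a 0))

theorem map_eqn (i : Fin n) :
    MvPolynomial.map (algebraMap A T) (eqn a i) = C (algebraMap A T (a 0)) * (X i - C (val a T i)) := by
  rw [eqn, map_sub, map_mul, map_C, map_C, map_X, mul_sub, ← map_mul, val, mul_comm (algebraMap A T (a 0)),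
    ← IsLocalization.mk'_spec T (a i.succ) (⟨a 0, Submonoid.mem_powers (a 0)⟩ : Submonoid.powers (a 0))]

theorem span_map_eqn :
    Ideal.span (Set.range fun i => MvPolynomial.map (algebraMap A T) (eqn a i)) =
      Ideal.span (Set.range fun i => X i - C (val a T i)) := by
  have hu : IsUnit (C (algebraMap A T (a 0)) : MvPolynomial (Fin n) T) :=
    (IsLocalization.Away.algebraMap_isUnit (a 0)).map C
  refine le_antisymm (Ideal.span_le.2 ?_) (Ideal.span_le.2 ?_)
  · rintro _ ⟨i, rfl⟩
    simp only [map_eqn]
    exact Ideal.mul_mem_left _ _ (Ideal.subset_span ⟨i, rfl⟩)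
  · rintro _ ⟨i, rfl⟩
    obtain ⟨v, hv⟩ := isUnit_iff_exists_inv'.1 hu
    dsimp only
    rw [SetLike.mem_coe, show X i - C (val a T i) = v * MvPolynomial.map (algebraMap A T) (eqn a i) by
      rw [map_eqn, ← mul_assoc, hv, one_mul]]
    exact Ideal.mul_mem_left _ _ (Ideal.subset_span ⟨i, rfl⟩)

theorem isLocalization_poly :
    letI := (MvPolynomial.map (algebraMap A T) : MvPolynomial (Fin n) A →+* MvPolynomial (Fin n) T).toAlgebra
    IsLocalization.Away (C (a 0) : MvPolynomial (Fin n) A) (MvPolynomial (Fin n) T) := by
  have := MvPolynomial.isLocalization (σ := Fin n) (Submonoid.powers (a 0)) T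
  rw [Submonoid.map_powers] at this
  exact this

theorem acyclic_eqn (ha : Acyclic a) : Acyclic (eqn a) := by
  classical
  let T := Localization.Away (a 0)
  letI := (MvPolynomial.map (algebraMap A T) : MvPolynomial (Fin n) A →+* MvPolynomial (Fin n) T).toAlgebra
  haveI : IsLocalization.Away ((Fin.cons (C (a 0)) (eqn a) : Fin (n + 1) → MvPolynomial (Fin n) A) 0)
      (MvPolynomial (Fin n) T) := isLocalization_poly a T
  have hT : Acyclic (algebraMap (MvPolynomial (Fin n) A) (MvPolynomial (Fin n) T) ∘ eqn a) := by
    obtain ⟨v, hv⟩ := isUnit_iff_exists_inv'.1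
      ((IsLocalization.Away.algebraMap_isUnit (S := T) (a 0)).map (C : T →+* MvPolynomial (Fin n) T))
    refine acyclic_of_change (fun i : Fin n => (C (algebraMap A T (a 0)) : MvPolynomial (Fin n) T) • (Pi.single i 1 : Fin n → MvPolynomial (Fin n) T))
      (fun i : Fin n => v • (Pi.single i 1 : Fin n → MvPolynomial (Fin n) T)) (fun i => ?_) (fun i => ?_) (fun i => ?_)
      (acyclic_linear (val a T) id Function.injective_id)
    · simp only [Pi.smul_apply, smul_eq_mul, mul_assoc, ← Finset.mul_sum]
      rw [sum_single_mul]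
      exact (map_eqn a T i).symm
    · simp only [Pi.smul_apply, smul_eq_mul, mul_assoc, ← Finset.mul_sum]
      rw [sum_single_mul]
      show v * MvPolynomial.map (algebraMap A T) (eqn a i) = _
      rw [map_eqn, ← mul_assoc, hv, one_mul]; rfl
    · rw [Finset.sum_eq_single i (fun j _ hj => by simp [Pi.single_eq_of_ne hj]) (by simp)]
      funext j
      simp only [Pi.smul_apply, Pi.single_eq_same, smul_eq_mul, mul_one]
      rw [← mul_assoc, mul_comm _ v, hv, one_mul]
  have h := acyclic_tail (acyclic_cons_eqn a ha) (MvPolynomial (Fin n) T) (by rw [Fin.tail_cons]; exact hT)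
  rwa [Fin.tail_cons] at h

/-- the equations generate all relations -/
theorem mem_span_of_aeval (ha : Acyclic a) {p : MvPolynomial (Fin n) A} (hp : aeval (val a T) p = 0) :
    p ∈ Ideal.span (Set.range (eqn a)) := by
  letI := (MvPolynomial.map (algebraMap A T) : MvPolynomial (Fin n) A →+* MvPolynomial (Fin n) T).toAlgebra
  haveI := isLocalization_poly a T
  have h1 : MvPolynomial.map (algebraMap A T) p ∈ Ideal.span (Set.range fun i => X i - C (val a T i)) := by
    rw [← Set.image_univ, mem_span_iff_subst]
    simp only [subst, Set.mem_univ, if_true]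
    rw [aeval_map_algebraMap, show (fun j => C (val a T j)) =
      fun i => (IsScalarTower.toAlgHom A T (MvPolynomial (Fin n) T)) (val a T i) from rfl]
    rw [show aeval (fun i => (IsScalarTower.toAlgHom A T (MvPolynomial (Fin n) T)) (val a T i)) p =
      (IsScalarTower.toAlgHom A T (MvPolynomial (Fin n) T)) (aeval (val a T) p) from
        (AlgHom.congr_fun (comp_aeval (val a T) (IsScalarTower.toAlgHom A T (MvPolynomial (Fin n) T))) p).symm,
      hp, map_zero]
  rw [← span_map_eqn] at h1
  have h2 : algebraMap (MvPolynomial (Fin n) A) (MvPolynomial (Fin n) T) p ∈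
      (Ideal.span (Set.range (eqn a))).map (algebraMap (MvPolynomial (Fin n) A) (MvPolynomial (Fin n) T)) := by
    rw [Ideal.map_span, ← Set.range_comp]
    exact h1
  rw [IsLocalization.algebraMap_mem_map_algebraMap_iff (Submonoid.powers (C (a 0)))] at h2
  obtain ⟨_, ⟨k, rfl⟩, hk⟩ := h2
  clear h1
  induction k with
  | zero => simpa using hk
  | succ k ih =>
    refine ih ?_
    have := mem_span_of_mul_mem (acyclic_cons_eqn a ha) (x := C (a 0) ^ k * p)
      (by rw [Fin.tail_cons, Fin.cons_zero, ← mul_assoc, ← pow_succ']; exact hk)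
    rwa [Fin.tail_cons] at this

theorem aeval_eqn (i : Fin n) : aeval (val a T) (eqn a i) = 0 := by
  simp [eqn, val]

end Groth.Agent.KoszBlow
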